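/-
Kernel layer for additive maps of `F₄⁶`: vectors are 12-bit numbers, maps are 144-bit numbers.
-/
import Cfsg.Agent.Lib.Fi.TwU6
import Cfsg.Agent.Lib.Fi.Net

set_option autoImplicit false
set_option linter.unusedSectionVars false
set_option linter.unusedVariables false

namespace CA.F24

open Equiv Subgroup CA.Fi CA.Unit

/-- decoding -/
def dec (c : ℕ) : V6 := fun j => (Fin.ofNat 4 (c >>> (2 * j.1)) : Fin 4)
/-- value of a field element -/
def vl (a : F4) : ℕ := Fin.val a
/-- encoding -/
def enc (v : V6) : ℕ :=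
  vl (v 0) + 4 * (vl (v 1) + 4 * (vl (v 2) + 4 * (vl (v 3) + 4 * (vl (v 4) + 4 * vl (v 5)))))

theorem vl_lt (a : F4) : vl a < 4 := Fin.is_lt _

theorem enc_lt (v : V6) : enc v < 4096 := by
  have h0 := vl_lt (v 0); have h1 := vl_lt (v 1); have h2 := vl_lt (v 2)
  have h3 := vl_lt (v 3); have h4 := vl_lt (v 4); have h5 := vl_lt (v 5)
  unfold enc; omega

theorem vl_dec (c : ℕ) (j : Fin 6) : vl (dec c j) = c / 2 ^ (2 * j.1) % 4 := by
  rw [← Nat.shiftRight_eq_div_pow]; rfl

@[simp] theorem dec_enc (v : V6) : dec (enc v) = v := by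
  have h0 := vl_lt (v 0); have h1 := vl_lt (v 1); have h2 := vl_lt (v 2)
  have h3 := vl_lt (v 3); have h4 := vl_lt (v 4); have h5 := vl_lt (v 5)
  funext j
  apply Fin.ext
  show vl (dec (enc v) j) = vl (v j)
  rw [vl_dec]
  fin_cases j <;> simp [enc] <;> omega

theorem enc_dec' (c : ℕ) : enc (dec c) = c % 4096 := by
  simp only [enc, vl_dec]
  simp
  omega

theorem enc_dec {c : ℕ} (h : c < 4096) : enc (dec c) = c := by
  rw [enc_dec', Nat.mod_eq_of_lt h]

theorem dec_mod (c : ℕ) : dec (c % 4096) = dec c := by rw [← enc_dec', dec_enc]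

theorem dec_inj {a b : ℕ} (ha : a < 4096) (hb : b < 4096) (h : dec a = dec b) : a = b := by
  rw [← enc_dec ha, h, enc_dec hb]

theorem exists_dec (v : V6) : ∃ c < 4096, v = dec c := ⟨_, enc_lt v, (dec_enc v).symm⟩

theorem forall_dec {p : V6 → Prop} (h : ∀ c < 4096, p (dec c)) (v : V6) : p v := by
  obtain ⟨c, hc, rfl⟩ := exists_dec v; exact h c hc

theorem dec_xor (a b : ℕ) : dec (a ^^^ b) = dec a + dec b := by
  funext j
  apply Fin.ext
  show ((a ^^^ b) >>> (2 * j.1)) % 4 = ((a >>> (2 * j.1)) % 4 ^^^ (b >>> (2 * j.1)) % 4) % 4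
  rw [Nat.shiftRight_xor_distrib, show (4 : ℕ) = 2 ^ 2 from rfl, ← Nat.xor_mod_two_pow, Nat.mod_mod]

@[simp] theorem dec_zero : dec 0 = 0 := by decide

theorem dec_and (c : ℕ) : dec (c &&& 4095) = dec c := by
  rw [show (4095 : ℕ) = 2 ^ 12 - 1 from rfl, Nat.and_two_pow_sub_one_eq_mod]; exact dec_mod c

theorem vadd_self (v : V6) : v + v = 0 := by
  funext j
  have : ∀ a : F4, a + a = 0 := by decide
  exact this _

theorem dec_eq_zero {c : ℕ} (h : c < 4096) : dec c = 0 ↔ c = 0 :=
  ⟨fun e => dec_inj h (by norm_num) (by simpa using e), by rintro rfl; simp⟩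

/-- force evaluation -/
noncomputable def fc {α : Type} (x : ℕ) (f : ℕ → α) : α :=
  @Nat.rec (fun _ => α) (f (nat_lit 0)) (fun n _ => f (Nat.succ n)) x
@[simp] theorem fc_eq {α : Type} (x : ℕ) (f : ℕ → α) : fc x f = f x := by cases x <;> rfl

/-- disjunction -/
noncomputable def orr (a b : Bool) : Bool := Bool.rec b true a
@[simp] theorem orr_iff {a b : Bool} : orr a b = true ↔ a = true ∨ b = true := by
  cases a <;> cases b <;> simp [orr]
/-- implication -/
noncomputable def imp (a b : Bool) : Bool := Bool.rec true b a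
@[simp] theorem imp_iff {a b : Bool} : imp a b = true ↔ (a = true → b = true) := by
  cases a <;> cases b <;> simp [imp]
/-- negation -/
noncomputable def neg (a : Bool) : Bool := Bool.rec true false a
@[simp] theorem neg_iff {a : Bool} : neg a = true ↔ ¬ a = true := by cases a <;> simp [neg]
/-- existential over a list -/
noncomputable def exL {α : Type} (f : α → Bool) (l : List α) : Bool :=
  List.rec false (fun a _ r => Bool.rec r true (f a)) l
theorem exL_iff {α : Type} {f : α → Bool} {l : List α} : exL f l = true ↔ ∃ a ∈ l, f a = true := by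
  induction l with
  | nil => simp [exL]
  | cons a l ih =>
    have : exL f (a :: l) = Bool.rec (exL f l) true (f a) := rfl
    rw [this]
    cases h : f a <;> simp [h, ih]
/-- `∀ c < 4096` -/
noncomputable def allV (f : ℕ → Bool) : Bool :=
  allN (fun a => allN (fun b => fc (Nat.add (Nat.mul a 64) b) f) 64) 64
theorem allV_iff {f : ℕ → Bool} : allV f = true ↔ ∀ c < 4096, f c = true := by
  simp only [allV, allN_iff, fc_eq]
  refine ⟨fun h c hc => ?_, fun h a ha b hb => h _ (show a * 64 + b < _ by omega)⟩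
  have := h (c / 64) (by omega) (c % 64) (by omega)
  rwa [show Nat.add (Nat.mul (c / 64) 64) (c % 64) = c from Nat.div_add_mod' c 64] at this
/-- table lookup: entry `i` of width `k` (mask `m = 2^k - 1`) -/
noncomputable def lk (X k m i : ℕ) : ℕ := Nat.land (Nat.shiftRight X (Nat.mul k i)) m

/-- one term of a matrix application -/
noncomputable def tm (M c i k : ℕ) : ℕ :=
  Nat.mul (Nat.land (Nat.shiftRight c i) (nat_lit 1)) (Nat.shiftRight M k)

/-- matrix application -/
noncomputable def app (M c : ℕ) : ℕ := fc c fun c =>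
  Nat.land (Nat.xor (Nat.xor (Nat.xor (Nat.xor (Nat.xor (Nat.xor (Nat.xor (Nat.xor (Nat.xor (Nat.xor (Nat.xor (tm M c (nat_lit 0) (nat_lit 0))
    (tm M c (nat_lit 1) (nat_lit 12)))
    (tm M c (nat_lit 2) (nat_lit 24)))
    (tm M c (nat_lit 3) (nat_lit 36)))
    (tm M c (nat_lit 4) (nat_lit 48)))
    (tm M c (nat_lit 5) (nat_lit 60)))
    (tm M c (nat_lit 6) (nat_lit 72)))
    (tm M c (nat_lit 7) (nat_lit 84)))
    (tm M c (nat_lit 8) (nat_lit 96)))
    (tm M c (nat_lit 9) (nat_lit 108)))
    (tm M c (nat_lit 10) (nat_lit 120)))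
    (tm M c (nat_lit 11) (nat_lit 132))) (nat_lit 4095)

/-- matrix product -/
noncomputable def mm (M N : ℕ) : ℕ := fc M fun M => fc N fun N =>
  (Nat.add (app M (Nat.shiftRight N (nat_lit 0))) (Nat.mul (nat_lit 4096)
    (Nat.add (app M (Nat.shiftRight N (nat_lit 12))) (Nat.mul (nat_lit 4096)
    (Nat.add (app M (Nat.shiftRight N (nat_lit 24))) (Nat.mul (nat_lit 4096)
    (Nat.add (app M (Nat.shiftRight N (nat_lit 36))) (Nat.mul (nat_lit 4096)
    (Nat.add (app M (Nat.shiftRight N (nat_lit 48))) (Nat.mul (nat_lit 4096)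
    (Nat.add (app M (Nat.shiftRight N (nat_lit 60))) (Nat.mul (nat_lit 4096)
    (Nat.add (app M (Nat.shiftRight N (nat_lit 72))) (Nat.mul (nat_lit 4096)
    (Nat.add (app M (Nat.shiftRight N (nat_lit 84))) (Nat.mul (nat_lit 4096)
    (Nat.add (app M (Nat.shiftRight N (nat_lit 96))) (Nat.mul (nat_lit 4096)
    (Nat.add (app M (Nat.shiftRight N (nat_lit 108))) (Nat.mul (nat_lit 4096)
    (Nat.add (app M (Nat.shiftRight N (nat_lit 120))) (Nat.mul (nat_lit 4096)
    (app M (Nat.shiftRight N (nat_lit 132)))))))))))))))))))))))))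

theorem app_lt (M c : ℕ) : app M c < 4096 := by
  rw [app, fc_eq]
  exact Nat.and_lt_two_pow _ (n := 12) (by decide)

theorem dec_tm (M c i k : ℕ) : dec (tm M c i k) = if c.testBit i then dec (M >>> k) else 0 := by
  have : tm M c i k = ((c >>> i) &&& 1) * (M >>> k) := rfl
  rw [this, Nat.testBit, Nat.one_and_eq_mod_two, Nat.and_one_is_mod]
  rcases Nat.mod_two_eq_zero_or_one (c >>> i) with h | h <;> simp [h]

theorem dec_app (M c : ℕ) :
    dec (app M c) = ∑ i ∈ Finset.range 12, if c.testBit i then dec (M >>> (12 * i)) else 0 := by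
  rw [app, fc_eq]
  simp only [Finset.sum_range_succ, Finset.sum_range_zero, zero_add, ← dec_tm, ← dec_xor]
  exact dec_and _

theorem dec_sum (c : ℕ) : dec c = ∑ i ∈ Finset.range 12, if c.testBit i then dec (2 ^ i) else 0 := by
  have : ∀ n, dec (c % 2 ^ n) = ∑ i ∈ Finset.range n, if c.testBit i then dec (2 ^ i) else 0 := by
    intro n
    induction n with
    | zero => simp [Nat.mod_one]
    | succ n ih =>
      rw [Finset.sum_range_succ, ← ih]
      have e : c % 2 ^ (n + 1) = (c % 2 ^ n) ^^^ (if c.testBit n then 2 ^ n else 0) := by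
        apply Nat.eq_of_testBit_eq
        intro i
        rw [Nat.testBit_xor, Nat.testBit_mod_two_pow, Nat.testBit_mod_two_pow]
        rcases lt_trichotomy i n with h | rfl | h
        · split_ifs <;> simp [h, h.ne', Nat.lt_succ_of_lt h]
        · split_ifs with h <;> simp [h]
        · split_ifs <;> simp [h.ne, h.not_gt, h.not_ge]
      rw [e, dec_xor]
      split_ifs <;> simp
  rw [← this 12]; exact (dec_mod c).symm

/-- additive permutations -/
def IsAdd (g : Perm V6) : Prop := ∀ u v, g (u + v) = g u + g v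

theorem IsAdd.zero {g : Perm V6} (h : IsAdd g) : g 0 = 0 := by
  have := h 0 0
  rw [add_zero] at this
  exact left_eq_add.1 this

theorem IsAdd.mul {g k : Perm V6} (h : IsAdd g) (h' : IsAdd k) : IsAdd (g * k) := fun u v => by
  rw [Perm.mul_apply, h', h]; rfl

theorem IsAdd.inv {g : Perm V6} (h : IsAdd g) : IsAdd g⁻¹ := fun u v => by
  apply g.injective; rw [h]; simp

theorem isAdd_one : IsAdd 1 := fun _ _ => rfl

/-- the additive hom of an additive permutation -/
def IsAdd.hom {g : Perm V6} (h : IsAdd g) : V6 →+ V6 := AddMonoidHom.mk' g h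

/-- `M` is the matrix of `g` -/
def Rep (g : Perm V6) (M : ℕ) : Prop := IsAdd g ∧ ∀ i < 12, g (dec (2 ^ i)) = dec (M >>> (12 * i))

theorem Rep.app {g : Perm V6} {M : ℕ} (h : Rep g M) (c : ℕ) : g (dec c) = dec (app M c) := by
  rw [dec_app, dec_sum c]
  refine (map_sum h.1.hom _ _).trans (Finset.sum_congr rfl fun i hi => ?_)
  split_ifs
  · exact h.2 i (Finset.mem_range.1 hi)
  · exact h.1.zero

theorem Rep.eq {g k : Perm V6} {M : ℕ} (h : Rep g M) (h' : Rep k M) : g = k :=
  Equiv.ext (forall_dec fun c _ => by rw [h.app, h'.app])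

theorem dec_cons {a : ℕ} (X : ℕ) : dec (Nat.add a (Nat.mul 4096 X)) = dec a := by
  rw [← dec_mod, ← dec_mod a]; congr 1
  show (a + 4096 * X) % 4096 = _
  omega

theorem shr_cons {a : ℕ} (ha : a < 4096) (X k : ℕ) :
    (Nat.add a (Nat.mul 4096 X)) >>> (12 * (k + 1)) = X >>> (12 * k) := by
  show (a + 4096 * X) >>> _ = _
  rw [Nat.mul_succ, Nat.add_comm (12 * k), Nat.shiftRight_add]
  congr 1
  rw [Nat.shiftRight_eq_div_pow]; omega

theorem dec_mm (M N : ℕ) {i : ℕ} (hi : i < 12) :
    dec (mm M N >>> (12 * i)) = dec (app M (N >>> (12 * i))) := by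
  rw [mm, fc_eq, fc_eq]
  interval_cases i <;>
    simp only [shr_cons (app_lt _ _), Nat.mul_zero, Nat.shiftRight_zero, dec_cons] <;> rfl

theorem Rep.mul {g k : Perm V6} {M N : ℕ} (h : Rep g M) (h' : Rep k N) : Rep (g * k) (mm M N) :=
  ⟨h.1.mul h'.1, fun i hi => by rw [Perm.mul_apply, h'.2 i hi, h.app, dec_mm _ _ hi]⟩

/-- the identity matrix -/
noncomputable def idM : ℕ := nat_lit 0x800400200100080040020010008004002001

theorem rep_one : Rep 1 idM := ⟨isAdd_one, by decide +kernel⟩

theorem Rep.inv {g k : Perm V6} {M N : ℕ} (h : Rep g M) (h' : Rep k N) (e : mm M N = idM) :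
    g⁻¹ = k := inv_eq_of_mul_eq_one_right ((e ▸ h.mul h').eq rep_one)

/-- `M` is the matrix of an element of `K` -/
def RK (K : Subgroup (Perm V6)) (M : ℕ) : Prop := ∃ g ∈ K, Rep g M

theorem RK.mul {K : Subgroup (Perm V6)} {M N : ℕ} (h : RK K M) (h' : RK K N) : RK K (mm M N) := by
  obtain ⟨g, hg, r⟩ := h
  obtain ⟨k, hk, s⟩ := h'
  exact ⟨_, mul_mem hg hk, r.mul s⟩

theorem RK.mem {K : Subgroup (Perm V6)} {M : ℕ} (h : RK K M) {g : Perm V6} (r : Rep g M) : g ∈ K := by
  obtain ⟨k, hk, s⟩ := h
  exact r.eq s ▸ hk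

/-- list entry -/
noncomputable def nth (l : List ℕ) : ℕ → ℕ :=
  List.rec (fun _ => idM) (fun a _ r j => @Nat.rec (fun _ => ℕ) a (fun j' _ => r j') j) l

theorem nth_mem (l : List ℕ) (j : ℕ) : nth l j ∈ l ∨ nth l j = idM := by
  induction l generalizing j with
  | nil => exact Or.inr rfl
  | cons a l ih =>
    cases j with
    | zero => exact Or.inl List.mem_cons_self
    | succ j => exact (ih j).imp_left (List.mem_cons_of_mem _)

/-- product of a word -/
noncomputable def wd (gs : List ℕ) (w : List ℕ) : ℕ := List.rec idM (fun a _ r => mm (nth gs a) r) w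

theorem rk_nth {K : Subgroup (Perm V6)} {gs : List ℕ} (h : ∀ M ∈ gs, RK K M) (j : ℕ) :
    RK K (nth gs j) :=
  (nth_mem gs j).elim (h _) fun e => e ▸ ⟨1, one_mem _, rep_one⟩

theorem rk_wd {K : Subgroup (Perm V6)} {gs : List ℕ} (h : ∀ M ∈ gs, RK K M) (w : List ℕ) :
    RK K (wd gs w) := by
  induction w with
  | nil => exact ⟨1, one_mem _, rep_one⟩
  | cons a w ih => exact (rk_nth h a).mul ih

/-- descent check: entry `c` of the table `X` (width 8) holds a depth (upper bits) and a generator
(lower 3 bits) -/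
noncomputable def descChk (gs : List ℕ) (X : ℕ) : Bool :=
  allV (fun c => fc (lk X 8 255 c) fun e => orr (Nat.beq e 0)
    (Nat.ble (Nat.succ (Nat.shiftRight (lk X 8 255 (app (nth gs (Nat.land e 7)) c)) 3))
      (Nat.shiftRight e 3)))

theorem descent {K : Subgroup (Perm V6)} {gs : List ℕ} (h : ∀ M ∈ gs, RK K M) {X : ℕ}
    (e : descChk gs X = true) (v : V6) : ∃ g ∈ K, ∃ c < 4096, lk X 8 255 c = 0 ∧ g v = dec c := by
  simp only [descChk, allV_iff, fc_eq, orr_iff, beq_iff, ble_iff] at e
  obtain ⟨c, hc, rfl⟩ := exists_dec v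
  induction hn : Nat.shiftRight (lk X 8 255 c) 3 using Nat.strong_induction_on generalizing c with
  | _ n ih =>
    rcases e c hc with f | f
    · exact ⟨1, one_mem _, c, hc, f, rfl⟩
    · obtain ⟨g, hg, r⟩ := rk_nth h (Nat.land (lk X 8 255 c) 7)
      obtain ⟨k, hk, d, hd, f1, f2⟩ := ih _ (hn ▸ f) _ (app_lt _ _) rfl
      exact ⟨k * g, mul_mem hk hg, d, hd, f1, by rw [Perm.mul_apply, r.app, f2]⟩

/-! ### Tables -/

/-- the reflecting vectors of the Mitchell group modulo 2 -/
def Rt (v : V6) : Prop := (Finset.univ.filter fun j => v j ≠ 0).card = 2 ∨ ∏ j, v j = 1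

instance (v : V6) : Decidable (Rt v) := inferInstanceAs (Decidable (_ ∨ _))

/-- non-isotropic vectors -/
noncomputable def QB : ℕ := nat_lit 0x111e111e111eeee1111e111e111eeee1111e111e111eeee1eee1eee1eee1111e111e111e111eeee1111e111e111eeee1111e111e111eeee1eee1eee1eee1111e111e111e111eeee1111e111e111eeee1111e111e111eeee1eee1eee1eee1111eeee1eee1eee1111eeee1eee1eee1111eeee1eee1eee1111e111e111e111eeee1111e111e111eeee1111e111e111eeee1111e111e111eeee1eee1eee1eee1111e111e111e111eeee1111e111e111eeee1111e111e111eeee1eee1eee1eee1111e111e111e111eeee1111e111e111eeee1111e111e111eeee1eee1eee1eee1111eeee1eee1eee1111eeee1eee1eee1111eeee1eee1eee1111e111e111e111eeee1111e111e111eeee1111e111e111eeee1111e111e111eeee1eee1eee1eee1111e111e111e111eeee1111e111e111eeee1111e111e111eeee1eee1eee1eee1111e111e111e111eeee1111e111e111eeee1111e111e111eeee1eee1eee1eee1111eeee1eee1eee1111eeee1eee1eee1111eeee1eee1eee1111e111e111e111eeee1eee1eee1eee1111eeee1eee1eee1111eeee1eee1eee1111e111e111e111eeee1eee1eee1eee1111eeee1eee1eee1111eeee1eee1eee1111e111e111e111eeee1eee1eee1eee1111eeee1eee1eee1111eeee1eee1eee1111e111e111e111eeee1111e111e111eeee1111e111e111eeee1111e111e111eeee1eee1eee1eee1111e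
/-- reflecting vectors -/
noncomputable def RB : ℕ := nat_lit 0x824024804820000024804820824000004820824024800000000000000000000124804820824000004820824024800000824024804820000000000000000000014820824024800000824024804820000024804820824000000000000000000001000000000000000100000000000000010000000000000001000100010001111e248048208240000048208240248000008240248048200000000000000000000148208240248000008240248048200000248048208240000000000000000000018240248048200000248048208240000048208240248000000000000000000001000000000000000100000000000000010000000000000001000100010001111e482082402480000082402480482000002480482082400000000000000000000182402480482000002480482082400000482082402480000000000000000000012480482082400000482082402480000082402480482000000000000000000001000000000000000100000000000000010000000000000001000100010001111e000000000000000100000000000000010000000000000001000100010001111e000000000000000100000000000000010000000000000001000100010001111e000000000000000100000000000000010000000000000001000100010001111e000100010001111e000100010001111e000100010001111e111e111e111eeee0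

theorem tb_QB {c : ℕ} (h : c < 4096) : tb QB c = true ↔ h6 (dec c) (dec c) = 1 := by
  have : allV (fun c => decide (tb QB c = true ↔ h6 (dec c) (dec c) = 1)) = true := by
    decide +kernel
  exact of_decide_eq_true (allV_iff.1 this c h)

theorem tb_RB {c : ℕ} (h : c < 4096) : tb RB c = true ↔ Rt (dec c) := by
  have : allV (fun c => decide (tb RB c = true ↔ Rt (dec c))) = true := by
    decide +kernel
  exact of_decide_eq_true (allV_iff.1 this c h)

end CA.F24
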