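/-
Groups of large Fischer type: finite checks on the projective plane of order four inside the Todd module.
-/
import Cfsg.Agent.Lib.F24.U4
import Cfsg.Agent.Lib.F24.C0
import Cfsg.Agent.Lib.F24.JT

set_option autoImplicit false
set_option linter.unusedSectionVars false
set_option linter.unusedVariables false

namespace CA.F24

open Cfsg Equiv Subgroup CA CA.Fi CA.Unit CA.Fi.F4 CA.Ex2

/-- the set of duads -/
noncomputable def DB1 : ℕ := 0xb0d00007000001004020000800000e440402228088000100402000080011102800084020402841004120010801000082000480402000000014100201082841010200181004428180402400082000000201008140010000408042000280428102000080400011102022880804440001020000804000000e0d000070b0000001100801040012842102402080480000008001040100210000042080208400842180000400002011100888404422020001800004000020000e70000b0000d0000100010001000111101110111011100001000100010001000e000e000e000e0001000000000000111e000000000000eee1824124814821111e824124814821111e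
theorem DB1_eq : DB 0 1 = DB1 := by decide +kernel
/-- codes of the conjugates of `z` -/
noncomputable def zb (m : ℕ) : Bool := !(Nat.beq m 0) && !(Gol.tb DB1 m)
/-- cosets of conjugates of `z` -/
noncomputable def pty (m : ℕ) : Bool := zb m && zb (m ^^^ 1) && zb (m ^^^ 2) && zb (m ^^^ 3)
/-- the points other than `1, 2, 3` -/
def pn (k : Fin 21) : ℕ := if k = 0 then 0 else k + 3
/-- codes of the points of the plane -/
noncomputable def dl (k : Fin 21) : ℕ := Gol.fld 12 0x12021541e4397db4271307f67ed11044008424008823f78008c22a1400c0040 k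
/-- the direction of a point -/
def pk (k : Fin 21) : Fin 6 := pI (pn k)
/-- collinearity -/
def onL (s p q : Fin 21) : Prop := s = p ∨ s = q ∨ zb (dl s ^^^ dl p ^^^ dl q) = false
noncomputable instance (s p q : Fin 21) : Decidable (onL s p q) := inferInstanceAs (Decidable (_ ∨ _ ∨ _))

theorem pn_lt : ∀ k, pn k < 24 := by decide
theorem pn_sur : ∀ m < 24, m ≠ 1 → m ≠ 2 → m ≠ 3 → ∃ k, pn k = m := by decide
theorem pn_ne : ∀ k, pn k ≠ 1 ∧ pn k ≠ 2 ∧ pn k ≠ 3 := by decide
theorem pn_inj : Function.Injective pn := by decide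
theorem dl_eq : ∀ k, dl k = 64 ^^^ Gol.fld 24 (PT 1) (pn k) := by decide +kernel
theorem dl_lt : ∀ k, dl k < 2048 := by decide +kernel
theorem dl_inj : Function.Injective dl := by decide +kernel
theorem dl_zero : dl 0 = 64 := by decide +kernel
theorem pk_ne : ∀ k, k ≠ 0 → pk k ≠ 0 := by decide +kernel
theorem pk_sur : ∀ i, i ≠ 0 → ∃ k, k ≠ 0 ∧ pk k = i := by decide +kernel
theorem pk_eq : ∀ p q, p ≠ 0 → q ≠ 0 → p ≠ q → (pk p = pk q ↔ zb (64 ^^^ dl p ^^^ dl q) = false) := by
  decide +kernel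
theorem pL_ne : ∀ p q, p ≠ q → pk p = pk q → pL (pn p) + pL (pn q) ≠ 0 := by decide +kernel
theorem ck1 : ∀ p q, p ≠ q → zb (64 ^^^ dl p ^^^ dl q) = false → ∀ s, s ≠ 0 → s = p ∨ s = q ∨
    pty (64 ^^^ dl s ^^^ dl p ^^^ dl q) = true ∨ ∃ f, dl f = 64 ^^^ dl s ^^^ dl p ^^^ dl q := by decide +kernel
theorem ck3 : ∀ q, q ≠ 0 → ∃ c d, c ≠ d ∧ zb (dl c ^^^ 64 ^^^ dl q) = false ∧ zb (dl d ^^^ 64 ^^^ dl q) = false ∧
    ∃ f, dl f = 64 ^^^ dl q ^^^ dl c ^^^ dl d := by decide +kernel
theorem ck5 : ∀ a b c, a ≠ 0 → b ≠ c → ∃ s, onL s 0 a ∧ onL s b c := by decide +kernel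
theorem ck6 : ∀ m < 2048, pty m = true ∨ m < 4 ∨ (∃ k, m ^^^ dl k < 4) ∨
    ∃ p q, p ≠ q ∧ m ^^^ (dl p ^^^ dl q) < 4 := by decide +kernel
theorem ck7 : ∀ q, q ≠ 0 → ∃ s, s ≠ 0 ∧ s ≠ q ∧ zb (dl s ^^^ 64 ^^^ dl q) = true := by decide +kernel
theorem ck8 : ∀ k, ∀ e < 4, e ≠ 0 → zb (dl k ^^^ e) = false := by decide +kernel
theorem ck9 : pty 144 = true ∧ dl 0 ^^^ dl 1 ^^^ (dl 2 ^^^ dl 12) ^^^ (dl 17 ^^^ dl 19) = 1 ∧
    dl 0 ^^^ dl 1 ^^^ (dl 2 ^^^ dl 3) ^^^ (dl 13 ^^^ dl 18) = 2 := by decide +kernel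
theorem zb_dl : ∀ k, zb (dl k) = true := by decide +kernel

end CA.F24
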