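/-
The stabiliser of a reflecting vector is `O₆⁻(2)`.
-/
import Cfsg.Agent.Lib.F24.Loc
import Cfsg.Agent.Lib.Fi.U45

set_option autoImplicit false
set_option linter.unusedSectionVars false
set_option linter.unusedVariables false

namespace CA.F24

open Cfsg Equiv Subgroup CA CA.Fi CA.Unit CA.Fi.F4 CA.Fs

/-- the semilinear reflections fixing `r0` -/
noncomputable def FR (p : ℕ) : ℕ := lk (nat_lit 0x200300800c0001002004008000300100c00427f3958eac7f71592ae4f785e73791e7c7942f535a8f5c5af1a52ff4a58f5a3af15acaf43b51dacda46fb35d1adca64f663bb166cbb425a3af8afcf561ab2f64ab8fba3df1bacdf436f1b5c6f4b5535a1aacaf4ff635b1f6c5b42df3658bacdfe1f72574598aed3761edc76439f1e5c9f4e5a3af1f5c5a4af935e1f9c5e43e517ac7a49fd3a61fbc5d4a693be169cbe42af3f585acaf91ae2f94ae8fea37f1eac7f4300100c004000300100c004000300100c00437a19fce547a73a91fec574a993ee199cee43ff155cff455f3f515fcf545ff3551ffc5542ba3df8dfc65b1fd25d4568abd3d61bdc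d643551aacaa4ff63fb156cfb456f3b516fcb542653ba865cba51fa25a45f8a5d3a615dca643da16fcb54dae3571a7ca94f963eb196ceb42953ea895ceaa15f2a54fa85573a9157ca942ea37f87fc95d1562ab4fd85b73d91b7cd943aa1ffc554aa93fe159cfe459f3e519fce541a52fa45f8a5925e3a985eca7539a175c9a41d526a4bf8d5e2a73f78f9c57b39d17bc9d415f2a54a58fa625b3a685bcad536a1d5c6a40100200800c020030040080000300100c0041fa25f4fa85ff2553af855caa53fa1a5cfa40c0040030010c0040030010000300100c00417529a4ef87572f935e8a7cf7e39717ec9740300100c0040300100c0040000300100c00404008002003040080020030000300100c0041002004008000200300800c000300100c0041ef27547589ad2f635b8adcfde3671dec67419a2ef49a8efa2ff3558aacfae3f71aecf7416a2bf46a8bf52aa3fa8ffc5ab3fd1abcfd4020030040080100200800c0000300100c0041bf2d54d586ab2ad3fd8f6c5db36d1dbc6d40800c0010020800c0010020000300100c004) 144 0xffffffffffffffffffffffffffffffffffff p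
/-- generators -/
noncomputable def gR : List ℕ := [FR 23, FR 28, FR 4, FR 34, FR 15, FR 3]

theorem rk_gR : ∀ M ∈ gR, RK (Hs ⊓ St r0) M := by
  have : ∀ x y M, (mm (wd gK x) (wd gK y) = idM ∧ mm (mm (wd gK x) (mm SM TM)) (wd gK y) = M ∧ app M 5 = 5) →
      RK (Hs ⊓ St r0) M := fun x y M e =>
    (rep_conj_f0 e.1 e.2.1).rk ⟨Or.inr (f0_conj_mul (rk_wd rk_gK _).mat_mem), (rep_conj_f0 e.1 e.2.1).fix e.2.2 dec_r0⟩
  simp only [gR, List.forall_mem_cons, List.not_mem_nil, false_imp_iff, implies_true, and_true]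
  exact ⟨this [] [] _ (by decide +kernel),
    this [1, 2, 0, 1, 5] [6, 1, 0, 2, 1] _ (by decide +kernel),
    this [3, 1, 2, 0, 1, 5, 4, 3, 2, 1, 5] [6, 1, 2, 3, 4, 6, 1, 0, 2, 1, 3] _ (by decide +kernel),
    this [2, 3, 1, 2, 0, 1, 5] [6, 1, 0, 2, 1, 3, 2] _ (by decide +kernel),
    this [4, 1, 2, 0, 1, 6, 3, 2, 1, 5] [6, 1, 2, 3, 5, 1, 0, 2, 1, 4] _ (by decide +kernel),
    this [2, 3, 1, 2, 0, 1, 5, 4, 3, 2, 1, 5] [6, 1, 2, 3, 4, 6, 1, 0, 2, 1, 3, 2] _ (by decide +kernel)⟩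

theorem rk_FR (p : ℕ) (hp : p < 36) : RK (Hs ⊓ St r0) (FR p) := by
  let L : List (List ℕ) := [[5, 3, 1, 3, 5], [4, 3, 2, 0, 2, 3, 4], [3, 4, 0, 4, 3], [5], [2], [3, 1, 3], [1, 5, 0, 5, 1], [4, 3, 1, 3,
    4], [4, 2, 4], [5, 3, 2, 0, 2, 3, 5], [5, 4, 5], [1, 2, 0, 2, 1], [3, 2, 0, 2, 3], [5, 4, 2, 4, 5], [3, 4, 2,
    1, 2, 4, 3], [4], [4, 2, 1, 2, 4], [1, 5, 3, 2, 0, 2, 3, 5, 1], [5, 0, 5], [4, 3, 4], [2, 0, 2], [4, 5, 1, 5,
    4], [5, 4, 3, 4, 5], [0], [3, 1, 5, 0, 5, 1, 3], [5, 2, 0, 2, 5], [4, 5, 2, 0, 2, 5, 4], [3, 2, 3], [1], [5,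
    1, 3, 4, 0, 4, 3, 1, 5], [5, 2, 1, 2, 5], [4, 0, 4], [1, 3, 4, 0, 4, 3, 1], [5, 1, 5], [3], [2, 1, 2]]
  have : allN (fun p => Nat.beq (wd gR (L.getD p [])) (FR p)) 36 = true := by decide +kernel
  exact beq_iff.1 (allN_iff.1 this p hp) ▸ rk_wd rk_gR _

theorem la_FR : LA O36 (fun i => mat (FR (O36.pt i))) fun p => mat (FR p) := by
  have pt : ∀ i < 6, O36.pt i < 36 := fun i hi => (la36.pt i hi).1
  refine ⟨la36.lt, fun i hi p hp => (rk_FR _ (pt i hi)).rep.conj (rk_FR p hp).rep (rk_FR _ (la36.lt i hi p hp)).rep ?_,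
    fun p hp q hq e => ?_, la36.r0, fun i hi => ⟨pt i hi, rfl⟩, fun i hi => ?_⟩
  · have : allN (fun i => allN (fun p => Nat.beq (mm (FR (O36.pt i)) (FR p)) (mm (FR (O36.tab i p)) (FR (O36.pt i))))
      36) 6 = true := by decide +kernel
    exact beq_iff.1 (allN_iff.1 (allN_iff.1 this i hi) p hp)
  · have : allN (fun p => fc (app (FR p) 16) fun a => allN (fun q => imp (Nat.beq a (app (FR q) 16)) (Nat.beq p q))
      36) 36 = true := by decide +kernel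
    simp only [allN_iff, fc_eq, imp_iff, beq_iff] at this
    refine this p hp q hq (dec_inj (app_lt _ _) (app_lt _ _) ?_)
    rw [← (rk_FR p hp).rep.app, ← (rk_FR q hq).rep.app, e]
  · have : allN (fun i => Nat.beq (mm (FR (O36.pt i)) (FR (O36.pt i))) idM) 6 = true := by decide +kernel
    have r := (rk_FR _ (pt i hi)).rep
    exact (beq_iff.1 (allN_iff.1 this i hi) ▸ r.mul r).eq rep_one

theorem stab_r0_iso : Nonempty (↥(Hs ⊓ St r0) ≃* isometryGroup (ZMod 2) (quadFormMinus 2 (ZMod 2) 1 1)) := by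
  obtain ⟨φ, h1, -⟩ := la_FR.homC _ _ la36.conj fun y _ hy => lm36.1.faith y fun b hb => hy b (lm36.1.bs b hb)
  rw [lm36.2] at h1
  have c1 : Nat.card ↥(Hs ⊓ St r0) = 51840 := by
    have a1 := card_stab_r0 K0_Hs Hs_StR
    rw [card_Hs] at a1
    exact Nat.eq_of_mul_eq_mul_left (by norm_num) a1
  have le : KG (fun i => mat (FR (O36.pt i))) O36.r ≤ Hs ⊓ St r0 := (closure_le _).2 fun x ⟨i, hi, e⟩ =>
    SetLike.mem_coe.2 (e ▸ (rk_FR (O36.pt i) (la36.pt i hi).1).mat_mem)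
  have c2 := Nat.card_le_card_of_surjective φ (MonoidHom.range_eq_top.1 h1)
  obtain ⟨e⟩ := equiv_of_surj φ h1 (by rw [card_O6, ← c1]; exact card_le_of_le' le)
  obtain ⟨e'⟩ := nonempty_O6'
  rw [card_O6, ← c1] at c2
  exact ⟨(MulEquiv.subgroupCongr (eq_of_le_of_card_le le c2).symm).trans (e.trans e')⟩

end CA.F24
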