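/-
Orbits of `K0`, the stabiliser of the reflecting vectors, and the group `Hs = K0.2`.
-/
import Cfsg.Agent.Lib.F24.Uniq

set_option autoImplicit false
set_option linter.unusedSectionVars false
set_option linter.unusedVariables false

namespace CA.F24

open Equiv Subgroup CA.Fi CA.Unit CA.Fi.F4

/-- a reflecting vector -/
def r0 : V6 := ![1, 1, 0, 0, 0, 0]
/-- an isotropic vector that is not reflecting -/
def s0 : V6 := ![1, 1, 1, 1, 0, 0]

theorem rt_r0 : Rt r0 := by decide
theorem not_rt_s0 : ¬ Rt s0 := by decide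
theorem iso_s0 : Iso s0 := by decide

theorem rep_pm {s : Perm (Fin 6)} {M : ℕ} (h : ∀ i < 12, pm s (dec (2 ^ i)) = dec (M >>> (12 * i))) :
    Rep (pm s) M := ⟨GU.add (pm_GU s), h⟩
theorem rep_dg {a : X6} {M : ℕ} (h : ∀ i < 12, dg a (dec (2 ^ i)) = dec (M >>> (12 * i))) :
    Rep (dg a) M := ⟨GU.add (dg_GU a), h⟩

/-- generators of `K0` -/
noncomputable def gK : List ℕ := [mm TM 0x800400200100080040020010002001008004, mm TM 0x800400200100080040008004020010002001, mm TM 0x800400200100020010080040008004002001, mm TM 0x800400080040200100020010008004002001, mm TM 0x200100800400080040020010008004002001, 0x80040020010008004002001000400c003002, 0x80040020010008004002001000c008001003]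

theorem rk_gK : ∀ M ∈ gK, RK K0 M := by
  simp only [gK, List.forall_mem_cons, List.not_mem_nil, false_imp_iff, implies_true, and_true]
  exact ⟨⟨_, Tpm_K0 (Perm.sign_swap (show (0 : Fin 6) ≠ 1 by decide)), rep_T.mul (rep_pm (by decide +kernel))⟩,
    ⟨_, Tpm_K0 (Perm.sign_swap (show (1 : Fin 6) ≠ 2 by decide)), rep_T.mul (rep_pm (by decide +kernel))⟩,
    ⟨_, Tpm_K0 (Perm.sign_swap (show (2 : Fin 6) ≠ 3 by decide)), rep_T.mul (rep_pm (by decide +kernel))⟩,
    ⟨_, Tpm_K0 (Perm.sign_swap (show (3 : Fin 6) ≠ 4 by decide)), rep_T.mul (rep_pm (by decide +kernel))⟩,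
    ⟨_, Tpm_K0 (Perm.sign_swap (show (4 : Fin 6) ≠ 5 by decide)), rep_T.mul (rep_pm (by decide +kernel))⟩,
    ⟨_, dg_K0 (sum_bt 0), rep_dg (by decide +kernel)⟩,
    ⟨_, dg_K0 (a := -bt 0) (by decide), rep_dg (by decide +kernel)⟩⟩

/-- descent table -/
noncomputable def ORB : ℕ := nat_lit 0x25486d114161191a6e264e1d10181e713d5a1b195225322618325e252b35285a6d2d4221213a61294268202d283131722119216d262e2e61282d256e6d6862523d501a29492633362230562a2a35365345292e31362d3b3e2146353d404e426129205531244b363e5635283d384044533139395340463e5d403d4153535e533863293d2a2a3161323e632235323a326b312d5d3922523a425e3a2a424042425a356d3139613e294130366e4540414d53393a4263424141614042455b5b656640222a2a6d2a362e61352d3561636659413139315a403e3e66383d455a5a5b5a3a3931315b383e40613d413d63535d5b426d685342615361415363634e40484e533548232b412e2c362b344e35333d3b513a3131433e35394e293a3d49404e435931284d3923413e434e3d2b434043434a3b43434a4e4e43564b454b4a4a554a3b353a3c42393a29443236464e5250545135412a4548352c3c28344d3c463c4549392c454d3139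464446452c4e4c4c4c4255504d4e494149424e504c424d4242443a3545422a39424a46422a4a4a4a4a4131324a553a443e4c4a3d32565254544045493151513e395e3d404b5358605b4b51515142585e59405d5d5d4e40414e62424a4a4452564a4d524d4a44444e44425d5d554e524c5241565a5e404e41404a595159425962594458655d4d44424d59445142495140415140414b555058584b5c2b43333339593b435c333d3b4343613b335543334a464356452b434b4343523b603143593e39493d3b664a484b534a4143435c4b4349594d434d52525d5c43433b4d4b32414e4a4e4d334a534a4a4b393b5551434b465356453b5e5b5b5b434d4e39514d464155434e444a5a5e52445b515143585e614b5d65594c4b434d6b4565424a59453a553c46664c544a48415544424e444e4a4d4d523c41555648393d49653e5159343d6634553445443c414e4e563d4d554c344c44443e34343d4c4a4a4a5452525251534a55494c55564a5951594e5e65664d5c645c41554a4c6156565c45555d543c524c4c463c343d52464e4c514d4d445e443c44595b645b54332b3365363e33593b3335595d5e51513b433b524e46465d43454b5252515243433b4352434e4b594043455c4a55564b65654e43594d5949425c594d504b4b4c424a424b524e4e564a4d524b4b554b4a5951514e5b535b435e635b434d434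353515159435e665e4b655d5d4d4b434a614b4c43514c434b544b49425d564c55444a4242484a4e52514d4a4d54444d4c525159594a58665e55655d644c4d4e446a5151514c5e5e5c445c54534c463c455b3e56505c55553d6449344c5a545d544c5d60405259445152445861544d4e414452464a55454a524c55523c564c494c3c365e5a545d5d355e522c5254495449445c44443c4c3c5434445c443c362c353c36482c3c41362a4634284e3c3c4546493a3929443a363c423532454e50525251393145442c39464c46452c4c4c4c4c424149494250514c4d504d4c42424e42443638394d313a31433a293e4e4e4043592d412c354836232b342b4d363e333b5141233d4528314e393e4d2b464340434a4d4d4555433b434a464b4e4a564a4a3b443a3d4c32314a523e4a325454525440392a424d363a464242452a4e4a4a4a443d51395949463151403e4b5364585b4b5d595944515151425e5e5e4d42444d624c5252405959514d5a555c40414d404a55524d4e4a424a444e524a414d444442655d59405159594266585e4d42404d59405141515144424941404b565850584b2e303b3d29462d314521363e4e40416125493335503e1a293122552a362a35534b24353d202956313655283e4638455345403d5e393139533e4046535d535338265232255a3e1b1932185d26362b285a6141191a4e266e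11256d4d1e18101d713a2161292e6e42216842202e312831722d252d611921216e2e2e266d686e625252223a452e315e393a5d2a464240425a312a61322a633e2a633d22363a32326b3d6129416e36313935306d4641404d53404241613a3942634440465b665b65403d453d653931315a3e38465a5b5a5a3a352a2d612a222a6e2e323661656359413d3840613139315b423e3e635e535b4253616141686e53426353634d48404d534b4345533b39565146553b5b5b5b5b4341324d4a3b434e4b4e4d334a4a534a4b454e41564d4e39514d43444a5d5a52445d58614b515b5143665e594c434b4e6b4a334543333b564346552b43434b43523933593b2b5c43335c43333e433b43613d593949603b31433b3e654a4b48534a434b49594343435c43484e525e525c434d444a4e4456424d524e3c415556483946593a566646424a453c654c4a5448415951343e493d663d3465563444463c41564e4c344d4d553e444c443d34343e4c665d654e5159594d645c5c414a564c61525252514a4a4a544a565649564c554a5e56543c55555c464c524c45343c3e524e4e445d4d454c513c444459645b5b54535b5b435159514d635d5b43434e43534d554d554a42424b4e4a524b564b4b4a655d5d4b515159435e665e4e434b4a61434c4b544c4b4351494b425e4c5556444548455e433b3b5246434b525152524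33d3533592b333366333e36595d5e51514d434b593b4343524340465c564a554b4e59594966664d435c42594e4b504b4c65585d565951594a5e63644c4d4e446a4d4a5251424a42484a4e4e544e444c525d5e5c445151514c545c534c3c45465b56563e64553d505c34494c5c5e54544c4a46524c45524a5452563c55494c4c3c44595152605e4052584461544d4e41445e5e365d5d355a542c525254544949443c4c5434445c443c5c44443c2c35363c583c4d3c3c4158444e5a3445444c4459443d5d4c34544c4c5e4c3c4c544c4c5a4559414c594539553a46654a524c4a424c4c4c5254545152544c554a4a55564c4c4555543c49545456493c545c5454544144505b4c534e5b494d44515b635b4c5542414e424e494d4d543a4252564a3a6459594e5d65614d5a595142554c4a6a4a623846613b4c453b4a6c3b4b4b483b5d3e4c463d565445525e333b4b4e43332e516d3e59642d336e235d333d3b333b46464b33454d432b413b39362e232d43545454485c54584d51525943434d4b52635e58465d5d60455159513b4d4e43614e4e563b4d554a334a42423e362b354a3e46405b45453d5d39333951535d5e4b534c4d5b444150594e494451635b584c493c5454464c565449553c54545c54544d42494e4256414d544e3a4255524a3a665e604e5964594d595a51424c564a6a54344c4c3e445e4c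4c5d3c4c4c544c5a413c58443c584e3c5a4d34464c444459465939565946414c453a664a4c524a42545451524c494c524c56564a564a554c553e54463d5e4c455d52333b4d4b43333b614c46624a38454a3b6c3b4b4b483b64592e33512d6e3d236d5e333b3e333b4e46432b45454b333b413935232d2e435e5e60465d6358455951513b4d4e4361545c584e54545448525159434e434b52564e4a334d4d553b424a423d2b35364a46463e5e453d405b333939515e535b4b556b36466b354b4529567639414638316536533e355e5b3d5d632931454638292d5b732e636b222d7321652235322a313e3e462d3d453a223a32312e22212d405d365b3e3566533d635e293145463829366b4b466b56354555297539454138316b63222e5b2d732d2273662232362a31463e3a223d3d452e323a312d22222e401e627d2e6a711d2d7e116d212d29203a716a1e2e621d7e2d117d6e21292e203a7e127016107e721571701e09151608392d26203e252e203a2323183235362a52363e38203d4530243929312e1e111d42463e30203d3538202939312d111d1e422e262e29252d2d2922221a282d2e214921122a4010212e40282d1e4a414148435e5e50405d55584549515139394546595e56583e555d5d3d5151493145463961464e4a354d52422a4a3a42362a222d52363e38523d3d325e312a3159545252425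e565e3e555d583d5151493145463961565e5e465d5d50405149513946394559564e422a4a454a363a4a4235222a2e523e3e325d3d3538522a31315a525452423e46462845453b233b333b2e2619254b46463b23433d4528333b3b2d1925264b3d2b33362b3e333533332b2c2d2e244929132b5113292b5534341c4b4343483c2e46404c45452d5039213a55414d4e3c46462e50452d404c21393a544e41493c321e324c1d32324c3a3a144a4949553444514636514445353c3c542c2d2e2434343c3c5e3c463e5d453d455155564951444c415a504e4e50484d545c5649554c4c41444a484e50564d4c4d52424d4a515e5e42545d425d51425151524d4e42424c524a545e56565052555c54544954545d595c555b53534c5e5b634c494c4c51595c614c626366556365624a4d4e425954464c55454c544a51543a564b4a4a3a524a5243525b5a4e545255493b454659595b634e5b6b664d63635b4145463b61565e5b455d63533b5b4b53433b333d59364e4b524d4d335e432a43524a524a4266663e4e613d594d335959434d4141395a3b544d3b525c4359593348463945313656524b55552b534a2b4a4b434d413b4b3b33353b3b492b3d513b332b2b352b535b534c595e5e565b5d634c4c494c51555c5550524c4a5456525c5449545454636265565c59614c6663624a4d4e42594c46544a45544c5354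563a554a4b4a3a4d554d504c44415a4e48545c4955564c453c3d5e3c343c5d3e444651555649514d485055414c444a4c4e4e524e424a51425e5e515d5d4254514251524d4e42426b5b654e5b59634d63635b4145463b615b525a4d4a54524352545649463b4559665e533b5b555b464b5b5343333b3e594e4e335d4d354b522a434352524a4a42523b5c433b5a544b59593348394546313e61594e65653d4d59335943414e413956562b535536524b2b4a4a4b4e43413b3b3b492b3b4b3336513e3b332b2b362b5b5353385b5d6546515c5941313d3e51645e66465d6560455c6151393d3e31594e56563a55554a324a424a3a362a355a2e46404a45452d5239223955424d4e3a665e60465d646545645c51393d3e31595e5b6045535b5338595159413e313d5156564a32544d553a424a4a3a2a35365946462e52452d404a223939524e424a3a464e48354d5440284c3944312e212d54564e40284c454836394c4431212d2e543e363e2e353d3d2d34342c2025261959311e304a1d31304a3333124c4a4a5532264e48434d4d204e411b414d414341334e4e204d4d2548431b41414b434141333e163e4b153d3d4b32320b563939452b334b3b2e4b333b2d3b3b532325261b236e6e304e6d3d6140316161403d3e313163365b45355b63386161294639394529265e5a425d5d254e521a5240394239324832322a3a2a49223249322a261a252a5b36633835635b426161294539394629396e61406d6d304d613161403d3e31315e5e264d5d255a421a525240423939322a3a49223248322a4932322a1a25262a26565340555518404b194940313d3e2956561840552653401c4b49403e313929430e43380d434338434300463939452132413626413235252a2a4d1a1d1e12224a35312529285218315136212619251928295218364a3126513035211b252619304a281e4a30281d29295210151609112d0e201e0d2e201d222200120d0e0000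

theorem orbits (v : V6) : ∃ g ∈ K0, g v = 0 ∨ g v = Pi.single 0 1 ∨ g v = r0 ∨ g v = s0 := by
  obtain ⟨g, hg, c, hc, e1, e2⟩ := descent rk_gK (X := ORB) (by decide +kernel) v
  have : allV (fun c => imp (Nat.beq (lk ORB 8 255 c) 0)
    (orr (Nat.beq c 0) (orr (Nat.beq c 1) (orr (Nat.beq c 5) (Nat.beq c 85))))) = true := by decide +kernel
  have := allV_iff.1 this c hc
  simp only [imp_iff, orr_iff, beq_iff] at this
  refine ⟨g, hg, ?_⟩
  rw [e2]
  rcases this e1 with rfl | rfl | rfl | rfl <;> decide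

theorem GU.iso {g : Perm V6} (hg : g ∈ GU) {v : V6} : Iso (g v) ↔ Iso v := by
  rw [Iso, Iso, GU.h hg, ← (GU.add hg).zero, g.injective.ne_iff, (GU.add hg).zero]

theorem orb_norm {v : V6} (h : h6 v v = 1) : ∃ g ∈ K0, g v = Pi.single 0 1 := by
  obtain ⟨g, hg, e⟩ := orbits v
  rw [← GU.h (K0_GU hg)] at h
  refine ⟨g, hg, ?_⟩
  rcases e with e | e | e | e <;> first | exact e | (rw [e] at h; exact absurd h (by decide))

theorem orb_R {v : V6} (h : Rt v) : ∃ g ∈ K0, g v = r0 := by
  obtain ⟨g, hg, e⟩ := orbits v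
  rw [← StR.iff (K0_StR hg)] at h
  refine ⟨g, hg, ?_⟩
  rcases e with e | e | e | e <;> first | exact e | (rw [e] at h; exact absurd h (by decide))

theorem orb_S {v : V6} (h : Iso v) (h' : ¬ Rt v) : ∃ g ∈ K0, g v = s0 := by
  obtain ⟨g, hg, e⟩ := orbits v
  rw [← StR.iff (K0_StR hg)] at h'
  rw [← GU.iso (K0_GU hg)] at h
  refine ⟨g, hg, ?_⟩
  rcases e with e | e | e | e <;>
    first | exact e | (rw [e] at h; exact absurd h (by decide)) | (rw [e] at h'; exact absurd rt_r0 h')

theorem ncard_R : {v | Rt v}.ncard = 378 ∧ {v | Iso v ∧ ¬ Rt v}.ncard = 1701 := by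
  have h1 : (Finset.univ.filter Rt).card = 378 := by decide +kernel
  have h2 : (Finset.univ.filter fun v => Iso v ∧ True).card = 2079 := counts6.1
  have h3 : {v | Rt v}.ncard = 378 := by rw [← h1, ← Set.ncard_coe_finset]; simp
  have h4 : {v | Iso v}.ncard = 2079 := by rw [← h2, ← Set.ncard_coe_finset]; simp
  refine ⟨h3, ?_⟩
  have := Set.ncard_sdiff_add_ncard_of_subset (s := {v | Rt v}) (t := {v | Iso v}) fun v hv => Rt.iso hv
  rw [h3, h4] at this
  exact Nat.add_right_cancel this

/-- additive isometries of the quadratic form -/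
def OV : Subgroup (Perm V6) where
  carrier := {g | IsAdd g ∧ ∀ v, h6 (g v) (g v) = h6 v v}
  mul_mem' {g k} a b := ⟨a.1.mul b.1, fun v => (a.2 _).trans (b.2 v)⟩
  one_mem' := ⟨isAdd_one, fun _ => rfl⟩
  inv_mem' {g} a := ⟨a.1.inv, fun v => by simpa using (a.2 (g⁻¹ v)).symm⟩

theorem GU_le_OV : GU ≤ OV := fun g h => ⟨GU.add h, fun v => GU.h h v v⟩
theorem sig_OV : sig ∈ OV := ⟨sig_add, fun v => by rw [h_sig, h_star]⟩

theorem OV.iso {g : Perm V6} (hg : g ∈ OV) {v : V6} : Iso (g v) ↔ Iso v := by
  rw [Iso, Iso, hg.2, ← hg.1.zero, g.injective.ne_iff, hg.1.zero]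

theorem norm_StR {g : Perm V6} (hg : g ∈ OV) (hn : g ∈ normalizer (K0 : Set (Perm V6))) : g ∈ StR := by
  by_cases h : Rt (g r0)
  · refine mem_StR.2 fun v hv => ?_
    obtain ⟨k, hk, e⟩ := orb_R hv
    have := (StR.iff (K0_StR ((mem_normalizer_iff.1 hn k).1 hk)) (g v)).1
    exact this (by simpa [e] using h)
  · obtain ⟨k0, hk0, e0⟩ := orb_S ((OV.iso hg).2 rt_r0.iso) h
    have : {v | Iso v ∧ ¬ Rt v} ⊆ g '' {v | Rt v} := fun v hv => by
      obtain ⟨k, hk, e⟩ := orb_S hv.1 hv.2
      have := (mem_normalizer_iff''.1 hn _).1 (mul_mem (inv_mem hk) hk0)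
      exact ⟨_, mem_StR.1 (K0_StR this) _ rt_r0, by simp [e0, ← e]⟩
    have := (Set.ncard_le_ncard this).trans (Set.ncard_image_le (Set.toFinite _))
    rw [ncard_R.1, ncard_R.2] at this
    omega

theorem mon_chk (v : V6) (h0 : v 0 = 0) (h1 : Rt (Pi.single 0 1 + v)) (h2 : Rt (Pi.single 0 1 + w • v)) :
    ∃ k c, c ≠ 0 ∧ v = Pi.single k c := by
  obtain ⟨c, hc, rfl⟩ := exists_dec v
  have : allV (fun c => imp (Nat.beq (c % 4) 0) (imp (tb RB (Nat.xor 1 c)) (imp (tb RB (Nat.xor 1 (app WM c)))
    (decide (∃ k a, a ≠ 0 ∧ dec c = Pi.single k a))))) = true := by decide +kernel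
  have := allV_iff.1 this c hc
  simp only [imp_iff, beq_iff, decide_eq_true_eq, xor_eq] at this
  have l : ∀ {a}, a < 4096 → 1 ^^^ a < 4096 := fun h => Nat.xor_lt_two_pow (n := 12) (by norm_num) h
  rw [tb_RB (l hc), tb_RB (l (app_lt _ _)), dec_xor, dec_xor, ← rep_W.app,
    show dec 1 = Pi.single 0 1 by decide] at this
  exact this (by simpa [show vl 0 = 0 from rfl] using (vl_dec c 0).symm.trans (congrArg vl h0)) h1 h2

/-- the unitary stabiliser of the reflecting vectors -/
theorem mem_K1 {g : Perm V6} (h1 : g ∈ GU) (h2 : g ∈ StR) : g ∈ K1 := by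
  obtain ⟨k, hk, e⟩ := orb_norm (v := g (Pi.single 0 1)) (by rw [GU.h h1]; decide)
  suffices k * g ∈ K1 by simpa using mul_mem (inv_mem (K0_le hk)) this
  replace h1 := mul_mem (K0_GU hk) h1
  replace h2 := mul_mem (K0_StR hk) h2
  rw [← Perm.mul_apply] at e
  generalize k * g = g at *
  have : ∀ j, ∃ k c, c ≠ 0 ∧ g (Pi.single j 1) = Pi.single k c := fun j => by
    by_cases a : j = 0
    · exact ⟨0, 1, one_ne_zero, a ▸ e⟩
    refine mon_chk _ ?_ ?_ ?_
    · have := GU.h h1 (Pi.single j 1) (Pi.single 0 1)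
      rw [e, std_single, std_single] at this
      simpa [a, Ne.symm a] using this
    · rw [← e, ← GU.add h1]; exact mem_StR.1 h2 _ (rt_e2 0 j 1 (Ne.symm a) one_ne_zero)
    · rw [← e, ← GU.smul h1, ← GU.add h1, ← Pi.single_smul, smul_eq_mul, mul_one]
      exact mem_StR.1 h2 _ (rt_e2 0 j w (Ne.symm a) (by decide))
  choose p c hc hp using this
  have pi : Function.Injective p := fun i j f => by
    by_contra a
    have := GU.h h1 (Pi.single i 1) (Pi.single j 1)
    rw [hp, hp, f, std_single, std_single] at this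
    simp [Ne.symm a, hc] at this
  let s := Equiv.ofBijective p pi.bijective_of_finite
  have e1 : g = pm s * dg fun j => lg (c j) := by
    obtain ⟨k, rfl⟩ := h1
    obtain ⟨k', hk'⟩ := mul_mem (pm_GU s) (dg_GU fun j => lg (c j))
    rw [← hk']
    refine congrArg iota (Subtype.ext (LinearEquiv.toLinearMap_injective
      ((Pi.basisFun F4 (Fin 6)).ext fun j => ?_)))
    rw [Pi.basisFun_apply]
    change iota k _ = iota k' _
    rw [hp, hk', Perm.mul_apply, show dg (fun j => lg (c j)) (Pi.single j 1) = Pi.single j (c j) from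
      funext fun i => by by_cases f : i = j <;> simp [dg_apply, f, om_lg _ (hc j)], pm_single]; rfl
  have e2 := mem_StR.1 (mul_mem (inv_mem (pm_StR s)) h2) 1 rt_one
  rw [e1, inv_mul_cancel_left] at e2
  refine e1 ▸ mul_mem (pm_K1 s) (K0_le (dg_K0 (om_inj ?_)))
  rcases e2 with e2 | e2
  · simp [dg_apply, om_ne] at e2
  · rw [om_sum, om_zero, ← e2]; simp [dg_apply]

/-- a semilinear reflection -/
noncomputable def f0 : Perm V6 := sig * T

theorem f0_sq : f0 * f0 = 1 := by
  rw [f0, mul_assoc, ← mul_assoc T, ← sig_T, mul_assoc, T_sq, mul_one, sig_sq]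
theorem f0_inv : f0⁻¹ = f0 := inv_eq_of_mul_eq_one_right f0_sq
theorem f0_f0 (g : Perm V6) : f0 * (f0 * g) = g := by rw [← mul_assoc, f0_sq, one_mul]
theorem f0_conj {g : Perm V6} (h : g ∈ K0) : f0 * g * f0 ∈ K0 := by
  have := sig_conj (T_conj h)
  rw [f0]
  conv => rhs; rhs; rw [sig_T]
  simpa only [mul_assoc] using this
theorem sig_not_GU : sig ∉ GU := fun h => by
  have := GU.smul h w 1
  revert this; decide
theorem f0_not_GU : f0 ∉ GU := fun h => sig_not_GU (by
  simpa [f0, T_sq, mul_assoc] using mul_mem h T_GU)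
theorem f0_OV : f0 ∈ OV := mul_mem sig_OV (GU_le_OV T_GU)
theorem f0_StR : f0 ∈ StR := mul_mem sig_StR T_StR
theorem rep_f0 : Rep f0 (mm SM TM) := rep_S.mul rep_T

/-- the group `3·U₄(3)·2` generated by the semilinear reflections -/
def Hs : Subgroup (Perm V6) where
  carrier := {g | g ∈ K0 ∨ f0 * g ∈ K0}
  one_mem' := Or.inl (one_mem _)
  mul_mem' {x y} hx hy := by
    rcases hx with hx | hx <;> rcases hy with hy | hy
    · exact Or.inl (mul_mem hx hy)
    · exact Or.inr (by simpa only [mul_assoc, f0_f0] using mul_mem (f0_conj hx) hy)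
    · exact Or.inr (by simpa only [mul_assoc] using mul_mem hx hy)
    · exact Or.inl (by simpa only [mul_assoc, f0_f0] using mul_mem (f0_conj hx) hy)
  inv_mem' {x} hx := by
    refine hx.imp inv_mem fun hx => ?_
    simpa only [mul_inv_rev, f0_inv, mul_assoc, f0_sq, mul_one] using f0_conj (inv_mem hx)

theorem K0_Hs : K0 ≤ Hs := fun _ h => Or.inl h
theorem f0_Hs : f0 ∈ Hs := Or.inr (f0_sq ▸ one_mem _)
theorem Hs_le {K : Subgroup (Perm V6)} (h1 : K0 ≤ K) (h2 : f0 ∈ K) : Hs ≤ K := fun g hg =>
  hg.elim (fun h => h1 h) fun h => by simpa only [f0_f0] using mul_mem h2 (h1 h)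
theorem Hs_OV : Hs ≤ OV := Hs_le (fun _ h => GU_le_OV (K0_GU h)) f0_OV
theorem Hs_StR : Hs ≤ StR := Hs_le K0_StR f0_StR
theorem Hs_GU {g : Perm V6} (h : g ∈ Hs) (h' : g ∈ GU) : g ∈ K0 :=
  h.resolve_right fun e => f0_not_GU (by simpa using mul_mem (K0_GU e) (inv_mem h'))

theorem relIndex_Hs : K0.relIndex Hs = 2 := by
  rw [relIndex, index_eq_two_iff']
  refine ⟨⟨f0, f0_Hs⟩, fun g => ?_⟩
  simp only [mem_subgroupOf, coe_mul]
  rcases g.2 with h | h
  · exact Or.inr ⟨h, fun e => f0_not_GU (K0_GU (by simpa using mul_mem e (inv_mem h)))⟩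
  · exact Or.inl ⟨h, fun e => f0_not_GU (K0_GU (by simpa using mul_mem h (inv_mem e)))⟩

theorem card_Hs : Nat.card Hs = 19595520 := by
  have := (K0.subgroupOf Hs).index_mul_card
  rw [show (K0.subgroupOf Hs).index = 2 from relIndex_Hs,
    Nat.card_congr (subgroupOfEquivOfLe K0_Hs).toEquiv, card_K0] at this
  omega

theorem card_stab {H : Subgroup (Perm V6)} (v : V6) {S : Set V6} (h1 : ∀ u, u ∈ S ↔ ∃ g ∈ H, g u = v) :
    S.ncard * Nat.card ↥(H ⊓ MulAction.stabilizer (Perm V6) v) = Nat.card H := by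
  have e : MulAction.orbit H v = S := by
    ext u
    rw [h1]
    exact ⟨by rintro ⟨g, rfl⟩; exact ⟨_, inv_mem g.2, g.1.symm_apply_apply v⟩, by
      rintro ⟨g, hg, rfl⟩; exact ⟨⟨_, inv_mem hg⟩, g.symm_apply_apply u⟩⟩
  rw [← e, ← MulAction.index_stabilizer, ← (MulAction.stabilizer H v).index_mul_card,
    ← Nat.card_congr (subgroupOfEquivOfLe (inf_le_left : H ⊓ _ ≤ H)).toEquiv, inf_subgroupOf_left]
  rfl

theorem card_stab_s0 {H : Subgroup (Perm V6)} (h1 : K0 ≤ H) (h2 : H ≤ OV) (h3 : H ≤ StR) :
    1701 * Nat.card ↥(H ⊓ MulAction.stabilizer (Perm V6) s0) = Nat.card H := by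
  rw [← ncard_R.2]
  refine card_stab _ fun u => ⟨fun h => (orb_S h.1 h.2).imp fun g hg => ⟨h1 hg.1, hg.2⟩, ?_⟩
  rintro ⟨g, hg, e⟩
  exact ⟨(OV.iso (h2 hg)).1 (e ▸ iso_s0), fun f => not_rt_s0 (e ▸ mem_StR.1 (h3 hg) u f)⟩

theorem card_stab_r0 {H : Subgroup (Perm V6)} (h1 : K0 ≤ H) (h3 : H ≤ StR) :
    378 * Nat.card ↥(H ⊓ MulAction.stabilizer (Perm V6) r0) = Nat.card H := by
  rw [← ncard_R.1]
  refine card_stab _ fun u => ⟨fun h => (orb_R h).imp fun g hg => ⟨h1 hg.1, hg.2⟩, ?_⟩
  rintro ⟨g, hg, e⟩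
  exact (StR.iff (h3 hg) u).1 (e ▸ rt_r0)

end CA.F24
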