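/-
Groups of large Fischer type: the outer involution, under a weaker hypothesis.
-/
import Cfsg.Agent.Lib.F24.Out

set_option autoImplicit false
set_option linter.unusedSectionVars false
set_option linter.unusedVariables false

namespace CA.F24

open Cfsg Equiv Subgroup CA CA.Fi CA.Unit CA.Fi.F4 CA.Ex2 CA.Fth

universe u

theorem core' {X : Type u} [Group X] [Finite X] (G0 : Subgroup X) (hidx : G0.index = 2) {z : G0}
    {Q : Subgroup ↥𝐂[z]} [Q.Normal] (hF : IsOfLargeFischerTypeAt z Q)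
    (hFX : ∀ d : X, (∀ q ∈ Q.map (𝐂[z]).subtype, (q : X) ∈ 𝐂[d]) → d ∈ G0) :
    ∃ d : X, orderOf d = 2 ∧ d ∉ G0 ∧ Commute d z ∧ ∃ t : ↥(G0 ⊓ 𝐂[d]), orderOf t = 2 ∧ IsQuasisimple 𝐂[t] ∧
      (∃ _ : ((zpowers t).subgroupOf 𝐂[t]).Normal, ∃ e : 𝐂[t] ⧸ (zpowers t).subgroupOf 𝐂[t],
        (IsThreeTranspositionClass (conjugatesOf e) ∧ IsOfTypeM22 _ (conjugatesOf e)) ∧ orderOf e = 2 ∧
        IsQuasisimple 𝐂[e] ∧
        (∃ _ : ((zpowers e).subgroupOf 𝐂[e]).Normal, IsU6 (𝐂[e] ⧸ (zpowers e).subgroupOf 𝐂[e])) ∧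
        ∃ g, g * e * g⁻¹ ∈ 𝐂[e] ∧ g * e * g⁻¹ ≠ e) ∧
      (∃ g, g * t * g⁻¹ ∈ 𝐂[t] ∧ g * t * g⁻¹ ≠ t) ∧ IsConj d (d * t) ∧
      ∀ g ∈ G0, Commute g (t : X) → g * d * g⁻¹ = d ∨ g * d * g⁻¹ = d * t := by
  obtain ⟨π, c, h⟩ := ft_of hF
  obtain ⟨x, σ, h⟩ := h.exists_fs
  obtain ⟨dd, h⟩ := h.exists_fd
  obtain ⟨K, k⟩ := h.exists_K
  have := normal_of_index_eq_two hidx
  obtain ⟨b, hb⟩ : ∃ b, b ∉ G0 := by
    by_contra! e
    rw [(eq_top_iff' _).2 e, index_top] at hidx; omega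
  obtain ⟨g, s, e1, e2, e3⟩ := k.exists_delta h (MulAut.conjNormal b)
  obtain ⟨d, δ, hd, hδ, e1, e2⟩ : ∃ (d : X) (δ : MulAut G0), d ∉ G0 ∧ (∀ a, (δ a : X) = d * a * d⁻¹) ∧
      (∀ a ∈ K, δ a = a) ∧ δ s = s :=
    ⟨g * b, _, fun e => hb ((mul_mem_cancel_left g.2).1 e), fun a => by simp [mul_assoc], e1, e2⟩
  have a1 : ∀ a, δ a = a ↔ (a : X) ∈ 𝐂[d] := fun a => by
    rw [Subtype.ext_iff, hδ, mul_inv_eq_iff_eq_mul, mem_cent1_iff, eq_comm]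
  have a2 : ∀ a ∈ 𝐂[σ (av 0)], δ a = a → a ∈ K := fun a ha e => by
    by_contra l
    have b1 := h.fix_Q (δ := δ) (fun y hy => by
      by_cases m : y ∈ K
      · exact e1 y m
      · simpa [e] using e1 _ ((k.mul_iff ha hy).2 (iff_of_false l m))) e2 e3
    exact hd (hFX d fun q hq => (a1 q).1 (b1 q hq))
  have a3 := (a1 _).1 (e1 _ (k.t_mem h))
  have a4 : ∀ a ∈ 𝐂[σ (av 0)], δ a = a ∨ a * d * (a : X)⁻¹ = d * σ (av 0) := fun a ha =>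
    ((mem_zp2 (k.t_sq h)).1 ((k.cent h).le (k.comm_fix e1 ha))).imp (fun e => (mul_inv_eq_one.1 e).symm) fun e => by
      rw [← mem_cent1_iff.1 a3, ← e, coe_mul, coe_inv, hδ]; group
  have n1 : σ (w • av 0) ≠ σ (av 0) := fun e =>
    absurd (h.io_inj (by decide) (by decide) (h.io_2.trans (e.trans h.io_1.symm))) (by decide)
  have a5 : d * d = 1 := by
    have b0 := mul_self_mem_of_index_two hidx d
    have b1 : ∀ a, δ a = a → a * (⟨d * d, b0⟩ : G0) = ⟨d * d, b0⟩ * a := fun a e =>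
      Subtype.ext (Commute.mul_right (mem_cent1_iff.1 ((a1 a).1 e)) (mem_cent1_iff.1 ((a1 a).1 e)))
    refine congrArg Subtype.val (((mem_zp2 (k.t_sq h)).1 ((k.cent h).le fun a ha => b1 a (e1 a ha))).resolve_right
      fun e => n1 ?_)
    rw [← e3, ← e, b1 s e2, mul_inv_cancel_right]
  let t : ↥(G0 ⊓ 𝐂[d]) := ⟨σ (av 0), (σ (av 0)).2, a3⟩
  let φ : K ≃* 𝐂[t] := ⟨⟨fun a => ⟨⟨a.1, a.1.2, (a1 _).1 (e1 _ a.2)⟩,
      mem_cent1_iff.2 (Subtype.ext (congrArg Subtype.val (mem_cent1_iff.1 (k.le a.2)) :))⟩,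
    fun y => ⟨⟨y.1, y.1.2.1⟩, a2 _ (mem_cent1_iff.2 (Subtype.ext (congrArg Subtype.val (mem_cent1_iff.1 y.2) :)))
      ((a1 _).2 y.1.2.2)⟩, fun _ => rfl, fun _ => rfl⟩, fun _ _ => rfl⟩
  have a6 : ((zpowers t).subgroupOf 𝐂[t]).Normal :=
    (normal_subgroupOf_iff_le_normalizer (zpowers_le.2 (self_mem_cent1 _))).2
      ((cent_zpowers _).ge.trans (centralizer_le_normalizer _))
  have a7 : t * t = 1 := Subtype.ext (congrArg Subtype.val (k.t_sq h) :)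
  have hs : Function.Surjective ((QuotientGroup.mk' ((zpowers t).subgroupOf 𝐂[t])).comp (φ : K →* 𝐂[t])) :=
    (QuotientGroup.mk'_surjective _).comp φ.surjective
  have hk : pker ((QuotientGroup.mk' ((zpowers t).subgroupOf 𝐂[t])).comp (φ : K →* 𝐂[t])) = zpowers (σ (av 0)) := by
    have b : ∀ a : K, a.1 ∈ pker ((QuotientGroup.mk' ((zpowers t).subgroupOf 𝐂[t])).comp (φ : K →* 𝐂[t])) ↔
        a.1 ∈ zpowers (σ (av 0)) := fun a => by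
      rw [← mem_subgroupOf, pker_subgroupOf, MonoidHom.mem_ker, MonoidHom.comp_apply, QuotientGroup.mk'_apply,
        QuotientGroup.eq_one_iff, mem_subgroupOf, mem_zp2 a7, mem_zp2 (k.t_sq h), Subtype.ext_iff, Subtype.ext_iff,
        Subtype.ext_iff (a1 := a.1), Subtype.ext_iff (a1 := a.1)]
      rfl
    exact le_antisymm (fun a ha => (b ⟨a, pker_le_dom _ ha⟩).1 ha) fun a ha => (b ⟨a, zpowers_le.2 (k.t_mem h) ha⟩).2 ha
  obtain ⟨c1, -, c2⟩ := k.type22 h hs hk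
  refine ⟨d, orderOf_eq_prime (by rw [pow_two, a5]) fun e => hd (e ▸ one_mem _), hd,
    (mem_cent1_iff.1 ((a1 z).1 (e1 z (k.A_le h h.z_AA)))).symm, t, orderOf_eq_prime (by rw [pow_two, a7]) fun e =>
      k.t_ne h (Subtype.ext (congrArg Subtype.val e :)), qs_congr φ (k.qs h), ⟨a6, _, ⟨c1, c2⟩, k.k22 h hs hk⟩,
    ⟨⟨s, s.2, (a1 s).1 e2⟩, mem_cent1_iff.2 (Subtype.ext ?_), fun e => n1 (e3 ▸ Subtype.ext (congrArg Subtype.val e :))⟩,
    ?_, fun g hg e => (a4 ⟨g, hg⟩ (mem_cent1_iff.2 (Subtype.ext e))).imp_left fun e =>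
      mul_inv_eq_iff_eq_mul.2 (mem_cent1_iff.1 ((a1 _).1 e))⟩
  · have := k.le (k.e_mem h)
    rw [← e3] at this
    exact (congrArg Subtype.val (mem_cent1_iff.1 this) :)
  · obtain ⟨y, hy, l⟩ := SetLike.not_le_iff_exists.1 fun e => by
      have := (relIndex_eq_one.2 e).symm.trans k.idx; omega
    exact isConj_iff.2 ⟨y, (a4 y hy).resolve_left fun e => l (a2 y hy e)⟩

end CA.F24
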